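import Groth.Prelude.Def_SekSuwa2
import Groth.Agent.TorsVecLib.UnitCocycle
import Groth.Agent.PowEtCentralLib.Transport
import Mathlib

/-! fppf torsors under `G^(λ)` are Zariski locally trivial on schemes flat over the base. -/

set_option autoImplicit false
set_option maxHeartbeats 800000
set_option backward.isDefEq.respectTransparency false
set_option backward.isDefEq.respectTransparency.types false
set_option linter.style.haveILetI false

universe u

open CategoryTheory CategoryTheory.Limits AlgebraicGeometry MonoidalCategory CartesianMonoidalCategory SekSuwa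
open scoped TensorProduct MonObj
open Groth.Agent

noncomputable section

namespace SekSuwaTors

variable {R : Type u} [CommRing R] (lam : R) {X : Scheme.{u}} (f : X ⟶ Spec (CommRingCat.of R))
  {A : Type u} [CommRing A] [Algebra R A] (j : Spec (CommRingCat.of A) ⟶ X)

section Pts

variable (hj : j ≫ f = Spec.map (CommRingCat.ofHom (algebraMap R A)))
variable {C : Type u} [CommRing C] [Algebra A C] [Algebra R C] [IsScalarTower R A C]

include hj in
theorem map_testObj : (TorsVec.testObj j C).hom ≫ f = Spec.map (CommRingCat.ofHom (algebraMap R C)) := by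
  change (Spec.map _ ≫ j) ≫ f = _
  rw [Category.assoc, hj, ← Spec.map_comp, ← CommRingCat.ofHom_comp, ← IsScalarTower.algebraMap_eq]

/-- `Spec C` as an `R`-scheme, mapped to the test object. -/
def eT : (Spec (CommRingCat.of C)).asOver (Spec (CommRingCat.of R)) ⟶ (Over.map f).obj (TorsVec.testObj j C) :=
  Over.homMk (𝟙 _) (by
    change 𝟙 _ ≫ (TorsVec.testObj j C).hom ≫ f = _
    rw [Category.id_comp, map_testObj f j hj]; rfl)

theorem isIso_eT : IsIso (eT f j hj (C := C)) := by
  haveI : IsIso ((Over.forget _).map (eT f j hj (C := C))) := inferInstanceAs (IsIso (𝟙 _))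
  exact isIso_of_reflects_iso _ (Over.forget _)

/-- The algebra map of a point of the group. -/
def P (g : TorsVec.testObj j C ⟶ Red.bc f (G R lam)) : WithConv (SekSuwa.A R lam →ₐ[R] C) :=
  Spec.mapMulEquiv.symm (eT f j hj ≫ (PowEtCentralLib.adjEquiv f _).symm g)

theorem P_mul (g g' : TorsVec.testObj j C ⟶ Red.bc f (G R lam)) : P lam f j hj (g * g') = P lam f j hj g * P lam f j hj g' := by
  unfold P
  rw [map_mul, MonObj.comp_mul, map_mul]

theorem P_bijective : Function.Bijective (P lam f j hj : (TorsVec.testObj j C ⟶ Red.bc f (G R lam)) → _) := by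
  haveI := isIso_eT f j hj (C := C)
  exact Spec.mapMulEquiv.symm.bijective.comp
    (((asIso (eT f j hj (C := C))).homFromEquiv.symm.bijective).comp
      (PowEtCentralLib.adjEquiv f (TorsVec.testObj j C)).symm.bijective)

theorem P_testMap {D : Type u} [CommRing D] [Algebra A D] [Algebra R D] [IsScalarTower R A D] (φ : C →ₐ[A] D)
    (g : TorsVec.testObj j C ⟶ Red.bc f (G R lam)) :
    (P lam f j hj (TorsVec.testMap j φ ≫ g)).ofConv = (φ.restrictScalars R).comp (P lam f j hj g).ofConv := by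
  apply AlgHom.coe_ringHom_injective
  have e : (PowEtCentralLib.adjEquiv f (TorsVec.testObj j D)).symm (TorsVec.testMap j φ ≫ g) =
      (Over.map f).map (TorsVec.testMap j φ) ≫ (PowEtCentralLib.adjEquiv f (TorsVec.testObj j C)).symm g :=
    Adjunction.homEquiv_naturality_left_symm _ _ _
  unfold P
  rw [e]
  let l : Spec (CommRingCat.of C) ⟶ Spec (CommRingCat.of (SekSuwa.A R lam)) :=
    𝟙 _ ≫ ((PowEtCentralLib.adjEquiv f (TorsVec.testObj j C)).symm g).left
  change (Spec.preimage (𝟙 (Spec (CommRingCat.of D)) ≫ Spec.map (CommRingCat.ofHom φ.toRingHom) ≫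
      ((PowEtCentralLib.adjEquiv f (TorsVec.testObj j C)).symm g).left)).hom = φ.toRingHom.comp (Spec.preimage l).hom
  rw [← CommRingCat.hom_ofHom φ.toRingHom, ← CommRingCat.hom_comp]
  congr 1
  apply Spec.map_injective
  rw [Spec.map_preimage, Spec.map_comp, Spec.map_preimage, Category.id_comp]
  simp [l]

/-- The group-like function of a point. -/
def un (g : TorsVec.testObj j C ⟶ Red.bc f (G R lam)) : C := (P lam f j hj g).ofConv SekSuwa.A.u

theorem un_eq (g : TorsVec.testObj j C ⟶ Red.bc f (G R lam)) :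
    un lam f j hj g = 1 + algebraMap R C lam * (P lam f j hj g).ofConv SekSuwa.A.t := by
  rw [un, SekSuwa.A.u_def, map_add, map_one, map_mul, AlgHom.commutes]

theorem un_mul (g g' : TorsVec.testObj j C ⟶ Red.bc f (G R lam)) :
    un lam f j hj (g * g') = un lam f j hj g * un lam f j hj g' := by
  rw [un, P_mul, AlgHom.convMul_def]
  simp [un, SekSuwa.A.comul_u]

theorem isUnit_un (g : TorsVec.testObj j C ⟶ Red.bc f (G R lam)) : IsUnit (un lam f j hj g) :=
  IsUnit.map _ (IsUnit.of_mul_eq_one _ SekSuwa.A.u_mul_inv)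

theorem un_testMap {D : Type u} [CommRing D] [Algebra A D] [Algebra R D] [IsScalarTower R A D] (φ : C →ₐ[A] D)
    (g : TorsVec.testObj j C ⟶ Red.bc f (G R lam)) :
    un lam f j hj (TorsVec.testMap j φ ≫ g) = φ (un lam f j hj g) := by
  rw [un, P_testMap]
  rfl

theorem un_injective [Module.Flat A C] (hreg : algebraMap R A lam ∈ nonZeroDivisors A) :
    Function.Injective (un lam f j hj : (TorsVec.testObj j C ⟶ Red.bc f (G R lam)) → C) := by
  intro g g' h
  apply (P_bijective lam f j hj).1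
  apply WithConv.ofConv_injective
  have h0 := h
  rw [un_eq, un_eq, add_right_inj, IsScalarTower.algebraMap_apply R A C, ← Algebra.smul_def, ← Algebra.smul_def] at h0
  refine SekSuwa.A.algHom_ext (Module.Flat.isSMulRegular_of_nonZeroDivisors (M := C) hreg h0) ?_
  refine (isUnit_un lam f j hj g).mul_left_cancel ?_
  conv_rhs => rw [h]
  simp only [un, ← map_mul, SekSuwa.A.u_mul_inv, map_one]

theorem exists_un_eq (v : Cˣ) (c : C) (hc : (v : C) = 1 + algebraMap R C lam * c) :
    ∃ g : TorsVec.testObj j C ⟶ Red.bc f (G R lam), un lam f j hj g = v := by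
  obtain ⟨g, hg⟩ := (P_bijective lam f j hj).2
    (WithConv.toConv (SekSuwa.A.lift R lam c (↑v⁻¹ : C) (by rw [Algebra.smul_def, ← hc, Units.mul_inv])))
  refine ⟨g, ?_⟩
  rw [un_eq, hg]
  simp [hc]

end Pts

variable (hj : j ≫ f = Spec.map (CommRingCat.ofHom (algebraMap R A)))

theorem exists_section_aux (hreg : algebraMap R A lam ∈ nonZeroDivisors A) {Y : Over X}
    (a : AlgGrp.Action (Red.bc f (G R lam)) Y)
    {B : Type u} [CommRing B] [Algebra A B] [Algebra R B] [IsScalarTower R A B] (p : TorsVec.testObj j B ⟶ Y)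
    (g : TorsVec.testObj j (B ⊗[A] B) ⟶ Red.bc f (G R lam))
    (hg : TorsVec.smulPt a g (TorsVec.testMap j TorsVec.insL ≫ p) = TorsVec.testMap j TorsVec.insR ≫ p)
    {A' : Type u} [CommRing A'] [Algebra A A'] [Module.Flat A A'] {B' : Type u} [CommRing B'] [Algebra A B'] [Algebra A' B']
    [Algebra R B'] [IsScalarTower R A B']
    [IsScalarTower A A' B'] [Module.FaithfullyFlat A' B'] (κ : B →ₐ[A] B') (v : B'ˣ) (c : B')
    (hc : (↑v⁻¹ : B') = 1 + algebraMap R B' lam * c) (w : A') (m : B)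
    (hv : (v : B') = algebraMap A' B' w * κ m)
    (hm : (1 : B) ⊗ₜ[A] m = un lam f j hj g * (m ⊗ₜ 1)) :
    ∃ s : Spec (CommRingCat.of A') ⟶ Y.left,
      s ≫ Y.hom = Spec.map (CommRingCat.ofHom (algebraMap A A')) ≫ j := by
  let L : B' →ₐ[A] B' ⊗[A'] B' := (TorsVec.insL (A := A') (B := B')).restrictScalars A
  let R' : B' →ₐ[A] B' ⊗[A'] B' := (TorsVec.insR (A := A') (B := B')).restrictScalars A
  let φ : B ⊗[A] B →ₐ[A] B' ⊗[A'] B' :=
    Algebra.TensorProduct.lift (L.comp κ) (R'.comp κ) fun _ _ => Commute.all _ _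
  have eL : φ.comp TorsVec.insL = L.comp κ := Algebra.TensorProduct.lift_comp_includeLeft _ _ _
  have eR : φ.comp TorsVec.insR = R'.comp κ := Algebra.TensorProduct.lift_comp_includeRight' _ _ _
  obtain ⟨q, hq⟩ := exists_un_eq lam f j hj v⁻¹ c hc
  let s := TorsVec.smulPt a q (TorsVec.testMap j κ ≫ p)
  haveI : Module.Flat A (B' ⊗[A'] B') := Module.Flat.trans A A' _
  have hs : TorsVec.testMap j L ≫ s = TorsVec.testMap j R' ≫ s := by
    have hg' := congrArg (TorsVec.testMap j φ ≫ ·) hg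
    simp only [TorsVec.comp_smulPt, TorsVec.testMap_comp_assoc, eL, eR] at hg'
    simp only [s, TorsVec.comp_smulPt, TorsVec.testMap_comp_assoc]
    rw [← hg', ← TorsVec.mul_smulPt]
    congr 1
    refine un_injective lam f j hj hreg ?_
    rw [un_mul, un_testMap, un_testMap, un_testMap, hq]
    have h1 : R' (κ m) = φ (un lam f j hj g) * L (κ m) := by
      have := congrArg φ hm
      rw [map_mul] at this
      have e1 : φ (TorsVec.insL m) = L (κ m) := DFunLike.congr_fun eL m
      have e2 : φ (TorsVec.insR m) = R' (κ m) := DFunLike.congr_fun eR m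
      rw [← e1, ← e2]
      exact this
    have hw : L (algebraMap A' B' w) = R' (algebraMap A' B' w) := by
      change TorsVec.insL (algebraMap A' B' w) = TorsVec.insR (algebraMap A' B' w)
      rw [AlgHom.commutes, AlgHom.commutes]
    have h2 : R' (v : B') = φ (un lam f j hj g) * L (v : B') := by
      rw [hv, map_mul, map_mul, h1, hw]; ring
    calc L (↑v⁻¹ : B') = L (↑v⁻¹ : B') * (R' (↑v⁻¹ : B') * R' (v : B')) := by
          rw [← map_mul R', Units.inv_mul, map_one, mul_one]
      _ = R' (↑v⁻¹ : B') * φ (un lam f j hj g) * (L (↑v⁻¹ : B') * L (v : B')) := by rw [h2]; ring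
      _ = R' (↑v⁻¹ : B') * φ (un lam f j hj g) := by rw [← map_mul L, Units.inv_mul, map_one, mul_one]
  let j' := Spec.map (CommRingCat.ofHom (algebraMap A A')) ≫ j
  have hw : s.left ≫ Y.hom = Spec.map (CommRingCat.ofHom (algebraMap A' B')) ≫ j' := by
    rw [show s.left ≫ Y.hom = Spec.map (CommRingCat.ofHom (algebraMap A B')) ≫ j from Over.w s]
    simp only [j']
    rw [← Spec.map_comp_assoc, ← CommRingCat.ofHom_comp, ← IsScalarTower.algebraMap_eq]
  exact TorsVec.exists_descend j' (Over.homMk s.left hw : TorsVec.testObj j' B' ⟶ Y)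
    (by ext1; exact congrArg (fun k : TorsVec.testObj j (B' ⊗[A'] B') ⟶ Y => k.left) hs)

theorem exists_descend_mod {A₁ : Type u} [CommRing A₁] [Algebra A A₁] {B : Type u} [CommRing B] [Algebra A B]
    [Module.FaithfullyFlat A B] (l : A) (hl : algebraMap A A₁ l = 0) (m : B)
    (d : B ⊗[A] B) (hd : (1 : B) ⊗ₜ[A] m - m ⊗ₜ 1 = algebraMap A (B ⊗[A] B) l * d) :
    ∃ x : A₁, algebraMap A₁ (A₁ ⊗[A] B) x = (1 : A₁) ⊗ₜ[A] m := by
  let B₁ := A₁ ⊗[A] B
  let inc₁ : B →ₐ[A] B₁ := Algebra.TensorProduct.includeRight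
  let ψ : B ⊗[A] B →ₐ[A] B₁ ⊗[A₁] B₁ :=
    Algebra.TensorProduct.lift (((Algebra.TensorProduct.includeLeft : B₁ →ₐ[A₁] B₁ ⊗[A₁] B₁).restrictScalars A).comp inc₁)
      (((Algebra.TensorProduct.includeRight : B₁ →ₐ[A₁] B₁ ⊗[A₁] B₁).restrictScalars A).comp inc₁) fun _ _ => Commute.all _ _
  have h0 : inc₁ m ⊗ₜ[A₁] (1 : B₁) = (1 : B₁) ⊗ₜ[A₁] inc₁ m := by
    have := congrArg ψ hd
    rw [map_sub, map_mul, AlgHom.commutes, IsScalarTower.algebraMap_apply A A₁ (B₁ ⊗[A₁] B₁), hl, map_zero, zero_mul,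
      sub_eq_zero] at this
    simpa [ψ] using this.symm
  obtain ⟨x, hx⟩ := ((Algebra.IsEffective.of_faithfullyFlat (R := A₁) (S := B₁)) (inc₁ m)).1
    (by rw [Algebra.TensorProduct.includeLeftSubRight_apply, h0, sub_self])
  exact ⟨x, hx⟩

/-- A twisted invariant is congruent to a scalar modulo `λ`. -/
theorem exists_lift_mod {B : Type u} [CommRing B] [Algebra A B] [Module.FaithfullyFlat A B] (l : A) (m : B)
    (d : B ⊗[A] B) (hd : (1 : B) ⊗ₜ[A] m - m ⊗ₜ 1 = algebraMap A (B ⊗[A] B) l * d) :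
    ∃ w : A, ∃ e : B, m - algebraMap A B w = algebraMap A B l * e := by
  obtain ⟨x, hx⟩ := exists_descend_mod (A₁ := A ⧸ Ideal.span ({l} : Set A)) l
    (Ideal.Quotient.eq_zero_iff_mem.mpr (Ideal.mem_span_singleton_self l)) m d hd
  let A₁ := A ⧸ Ideal.span ({l} : Set A)
  let B₁ := A₁ ⊗[A] B
  obtain ⟨w, rfl⟩ := Ideal.Quotient.mk_surjective x
  refine ⟨w, ?_⟩
  let J : Ideal B := (Ideal.span ({l} : Set A)).map (algebraMap A B)
  let q : A₁ →ₐ[A] B ⧸ J := Ideal.Quotient.liftₐ _ (Algebra.ofId A (B ⧸ J))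
    (fun z hz => Ideal.Quotient.eq_zero_iff_mem.mpr (Ideal.mem_map_of_mem _ hz))
  let π : B₁ →ₐ[A] B ⧸ J := Algebra.TensorProduct.lift q (Ideal.Quotient.mkₐ A J) fun _ _ => Commute.all _ _
  have he := congrArg π hx
  have this : Ideal.Quotient.mk J (m - algebraMap A B w) = 0 := by
    rw [map_sub, sub_eq_zero]
    have e1 : π (algebraMap A₁ B₁ (Ideal.Quotient.mk _ w)) = Ideal.Quotient.mk J (algebraMap A B w) := by
      change π (Ideal.Quotient.mk _ w ⊗ₜ[A] (1 : B)) = _
      exact (mul_one _ : q (Ideal.Quotient.mk _ w) * 1 = q (Ideal.Quotient.mk _ w))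
    have e2 : π ((1 : A₁) ⊗ₜ[A] m) = Ideal.Quotient.mk J m := by
      change q 1 * Ideal.Quotient.mk J m = _
      rw [map_one, one_mul]
    rw [← e1, ← e2]
    exact he.symm
  rw [Ideal.Quotient.eq_zero_iff_mem] at this
  simp only [J, Ideal.map_span, Set.image_singleton, Ideal.mem_span_singleton] at this
  exact this

include hj in
theorem exists_section_nhd (hreg : algebraMap R A lam ∈ nonZeroDivisors A) {Y : Over X}
    (a : AlgGrp.Action (Red.bc f (G R lam)) Y) (h : NonAbH1.IsPseudoTorsorSch a)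
    {B : Type u} [CommRing B] [Algebra A B] [Algebra R B] [IsScalarTower R A B] [Module.FaithfullyFlat A B]
    (p : TorsVec.testObj j B ⟶ Y) (y : PrimeSpectrum A) :
    ∃ x : A, x ∉ y.asIdeal ∧ ∃ s : Spec (CommRingCat.of (Localization.Away x)) ⟶ Y.left,
      s ≫ Y.hom = Spec.map (CommRingCat.ofHom (algebraMap A (Localization.Away x))) ≫ j := by
  obtain ⟨g, hg, hc⟩ := TorsVec.exists_cocycle j a h p
  have hc' := congrArg (un lam f j hj) hc
  rw [un_mul, un_testMap, un_testMap, un_testMap] at hc'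
  obtain ⟨c, hcv⟩ := isUnit_un lam f j hj g
  have hspan := TorsVec.span_splitting_eq_top c (by rw [hcv]; exact hc')
  obtain ⟨x, ⟨m, n, hm, hx⟩, hxy⟩ : ∃ x ∈ {x : A | ∃ m n : B, (1 : B) ⊗ₜ[A] m = (c : B ⊗[A] B) * (m ⊗ₜ 1) ∧
      algebraMap A B x = m * n}, x ∉ y.asIdeal := by
    by_contra hh
    simp only [not_exists, not_and, not_not] at hh
    exact y.isPrime.ne_top (eq_top_iff.mpr (hspan ▸ Ideal.span_le.mpr hh))
  rw [hcv] at hm
  let l := algebraMap R A lam
  obtain ⟨w, e, he⟩ := exists_lift_mod l m ((P lam f j hj g).ofConv SekSuwa.A.t * (m ⊗ₜ 1)) (by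
    rw [hm, un_eq, IsScalarTower.algebraMap_apply R A (B ⊗[A] B)]
    ring)
  by_cases hly : l ∈ y.asIdeal
  · have hw : w ∉ y.asIdeal := fun hwy => hxy (by
      rw [← Ideal.comap_map_eq_self_of_faithfullyFlat (B := B) y.asIdeal, Ideal.mem_comap, hx]
      refine Ideal.mul_mem_right _ _ ?_
      rw [← sub_add_cancel m (algebraMap A B w), he]
      exact add_mem (Ideal.mul_mem_right _ _ (Ideal.mem_map_of_mem _ hly)) (Ideal.mem_map_of_mem _ hwy))
    refine ⟨x * w, fun hh => (y.isPrime.mem_or_mem hh).elim hxy hw, ?_⟩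
    let A' := Localization.Away (x * w)
    let B' := A' ⊗[A] B
    let κ : B →ₐ[A] B' := Algebra.TensorProduct.includeRight
    obtain ⟨hxu, hwu⟩ := IsUnit.mul_iff.mp
      (map_mul (algebraMap A A') x w ▸ IsLocalization.Away.algebraMap_isUnit (x * w))
    obtain ⟨w', hw'⟩ := hwu
    have hmu : IsUnit (κ m) := by
      refine isUnit_of_mul_isUnit_left (y := κ n) ?_
      rw [← map_mul, ← hx, AlgHom.commutes, IsScalarTower.algebraMap_apply A A' B']
      exact hxu.map _
    obtain ⟨v, hv⟩ := ((w'⁻¹).isUnit.map (algebraMap A' B')).mul hmu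
    refine exists_section_aux lam f j hj hreg a p g hg κ v (-(↑v⁻¹ : B') * algebraMap A' B' ↑w'⁻¹ * κ e) ?_
      (↑w'⁻¹ : A') m hv hm
    have e1 : κ m = algebraMap A' B' (w' : A') + algebraMap R B' lam * κ e := by
      rw [IsScalarTower.algebraMap_apply R A B', ← AlgHom.commutes κ, ← map_mul, ← he, hw',
        ← IsScalarTower.algebraMap_apply A A' B', ← AlgHom.commutes κ, ← map_add, add_sub_cancel]
    have e2 : (v : B') = 1 + algebraMap R B' lam * (algebraMap A' B' ↑w'⁻¹ * κ e) := by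
      rw [hv, e1, mul_add, ← map_mul, Units.inv_mul, map_one]; ring
    calc (↑v⁻¹ : B') = ↑v⁻¹ * ((v : B') - algebraMap R B' lam * (algebraMap A' B' ↑w'⁻¹ * κ e)) := by
          rw [e2, add_sub_cancel_right, mul_one]
      _ = _ := by rw [mul_sub, Units.inv_mul]; ring
  · refine ⟨x * l, fun hh => (y.isPrime.mem_or_mem hh).elim hxy hly, ?_⟩
    let A' := Localization.Away (x * l)
    let B' := A' ⊗[A] B
    let κ : B →ₐ[A] B' := Algebra.TensorProduct.includeRight
    obtain ⟨hxu, hlu⟩ := IsUnit.mul_iff.mp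
      (map_mul (algebraMap A A') x l ▸ IsLocalization.Away.algebraMap_isUnit (x * l))
    have hmu : IsUnit (κ m) := by
      refine isUnit_of_mul_isUnit_left (y := κ n) ?_
      rw [← map_mul, ← hx, AlgHom.commutes, IsScalarTower.algebraMap_apply A A' B']
      exact hxu.map _
    obtain ⟨v, hv⟩ := hmu
    have hlu' : IsUnit (algebraMap R B' lam) := by
      rw [IsScalarTower.algebraMap_apply R A B', IsScalarTower.algebraMap_apply A A' B']
      exact hlu.map _
    obtain ⟨li, hli⟩ := hlu'.exists_right_inv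
    refine exists_section_aux lam f j hj hreg a p g hg κ v (li * ((↑v⁻¹ : B') - 1)) ?_ (1 : A') m
      (by rw [map_one, one_mul, hv]) hm
    rw [← mul_assoc, hli, one_mul]; ring

theorem result [IsDomain R] (hlam : lam ≠ 0) [Flat f] (Y : Over X) (a : AlgGrp.Action (Red.bc f (G R lam)) Y)
    (h : NonAbH1.IsTorsorFor Scheme.fppfPrecoverage a) : NonAbH1.IsTorsorFor Scheme.zariskiPrecoverage a := by
  obtain ⟨hp, Rc, hRc, hsec⟩ := h
  have hloc : NonAbH1.IsLocallyTrivialFor Scheme.fpqcPrecoverage Y :=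
    ⟨Rc, Scheme.fppfPrecoverage_le_fpqcPrecoverage _ hRc, hsec⟩
  have key : ∀ z : X, ∃ V : X.Opens, z ∈ V ∧ ∃ s : (V : Scheme.{u}) ⟶ Y.left, s ≫ Y.hom = V.ι := by
    intro z
    obtain ⟨U, hU, hzU, -⟩ := exists_isAffineOpen_mem_and_subset (x := z) (U := (⊤ : X.Opens)) trivial
    obtain ⟨y, rfl⟩ : z ∈ Set.range hU.fromSpec := by rw [hU.range_fromSpec]; exact hzU
    obtain ⟨φ, hφ⟩ := Spec.map_surjective (hU.fromSpec ≫ f)
    letI : Algebra R Γ(X, U) := φ.hom.toAlgebra
    have hj : hU.fromSpec ≫ f = Spec.map (CommRingCat.ofHom (algebraMap R Γ(X, U))) := hφ.symm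
    have hflat : Module.Flat R Γ(X, U) := by
      have : Flat (Spec.map φ) := by rw [hφ]; infer_instance
      exact RingHom.flat_algebraMap_iff.1 (show φ.hom.Flat from (HasRingHomProperty.Spec_iff (P := @Flat)).1 this)
    have hreg : algebraMap R Γ(X, U) lam ∈ nonZeroDivisors Γ(X, U) := by
      rw [mem_nonZeroDivisors_iff_right]
      intro b hb
      refine Module.Flat.isSMulRegular_of_nonZeroDivisors (M := Γ(X, U)) (mem_nonZeroDivisors_of_ne_zero hlam) ?_
      change lam • b = lam • (0 : Γ(X, U))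
      rw [smul_zero, Algebra.smul_def, mul_comm, hb]
    obtain ⟨B, _, _, hB, ⟨p⟩⟩ := TorsVec.exists_algebra_point hloc hU
    letI : Algebra R B := ((algebraMap Γ(X, U) B).comp (algebraMap R Γ(X, U))).toAlgebra
    haveI : IsScalarTower R Γ(X, U) B := IsScalarTower.of_algebraMap_eq fun _ => rfl
    haveI := hB
    obtain ⟨x, hx, s, hs⟩ := exists_section_nhd lam f hU.fromSpec hj hreg a hp p y
    let i : Spec (CommRingCat.of (Localization.Away x)) ⟶ X :=
      Spec.map (CommRingCat.ofHom (algebraMap Γ(X, U) (Localization.Away x))) ≫ hU.fromSpec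
    haveI : IsOpenImmersion (Spec.map (CommRingCat.ofHom (algebraMap Γ(X, U) (Localization.Away x)))) :=
      IsOpenImmersion.of_isLocalization x
    haveI : IsOpenImmersion i := inferInstance
    obtain ⟨w, hw⟩ : y ∈ Set.range (Spec.map (CommRingCat.ofHom (algebraMap Γ(X, U) (Localization.Away x)))) :=
      (PrimeSpectrum.localization_away_comap_range (Localization.Away x) x).ge hx
    refine ⟨i.opensRange, ⟨w, ?_⟩, i.isoOpensRange.inv ≫ s, ?_⟩
    · show hU.fromSpec (Spec.map (CommRingCat.ofHom (algebraMap Γ(X, U) (Localization.Away x))) w) = hU.fromSpec y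
      exact congrArg _ hw
    · rw [Category.assoc, hs]
      exact i.isoOpensRange_inv_comp
  choose V hV hs using key
  refine ⟨hp, Presieve.ofArrows (fun z : X => (V z).toScheme) (fun z => (V z).ι), ?_, ?_⟩
  · exact (X.openCoverOfIsOpenCover V (TopologicalSpace.Opens.coe_eq_univ.1 (Set.eq_univ_of_forall fun z => by
      simpa using ⟨z, hV z⟩))).mem₀
  · rintro S' g' ⟨z⟩
    exact hs z

end SekSuwaTors
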